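import Cfsg.Agent.H903.SylSemi
import Mathlib
import Cfsg.Agent.H903.SylMeet
import Cfsg.Agent.H481.TBound
import Cfsg.Agent.FastGrp
import Cfsg.Agent.Prune
set_option linter.all false

section
prune_inst 0x7ffcebfbaaf9bbffdfff7fffa69ccffdfdbc3ffff6dffdfbffe061ffcbdf4b0ec9c1abad6ff81afc1ff6621414f87b53ffffffffeb6bf87ffffd1ff41ffbffcffdf7b50951f68c340fbc0fff03f0778e7f3fffffffffffffffffffffffffffbeffbfffffffff

-- part: H126/SepMain
section
prune_inst 0x30004500240000000000000022000020300000000000000000000000010000000000000002000000000000000000000000000000400000000a000000000000000000000000000000000000000000000000000000000000000000000000000000000000000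
set_option linter.all false
open scoped Cfsg.Agent.FastGrp

-- part: H126/SepStep
section
/-!
# The inductive step for the separation statements in defining characteristic (helper126, tasks 459-462 of helper903)

`W = C × (F × F)`; `Γ` a `p`-group of semilinear maps of `W` fixing `e = (0, (1, 0))` and preserving the hyperplane
`(*, (*, 0))`.  `bar` : the induced group on `C`.  `PG Γ g` : for `y ∈ Γ` with `y₁ = a g y g⁻¹ ∈ Γ` one has `y₁ = y`, and
`y = 1` if `y` is linear.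

* `step` : `PG (bar Γ) g'` implies `PG Γ (gW t s g')`, `gW t s g' : (c, x, z) ↦ (g' c, s z, t x)`;
* `sep` : the separation statement for `gW t s g'` or `gW (u t) (v s) g'`.
-/

set_option autoImplicit false
set_option linter.unusedSectionVars false
set_option linter.unusedVariables false

namespace Cfsg.Agent.H126.SepStep

open Cfsg.Agent.H903.SylSemi

universe u v w

section basics

variable {F : Type u} [Field F] {V : Type v} [AddCommGroup V] [Module F V]

/-- The automorphism group of a finite field is cyclic. -/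
theorem isCyclic_ringEquiv (F : Type*) [Field F] [Finite F] : IsCyclic (F ≃+* F) := by
  obtain ⟨p, hp⟩ := CharP.exists F
  have hpp : Fact p.Prime := ⟨CharP.char_is_prime F p⟩
  let _ : Algebra (ZMod p) F := ZMod.algebra F p
  let φ : (F ≃ₐ[ZMod p] F) →* (F ≃+* F) :=
    { toFun := fun σ => σ.toRingEquiv
      map_one' := rfl
      map_mul' := fun _ _ => rfl }
  have hφ : Function.Surjective φ := by
    intro σ
    refine ⟨AlgEquiv.ofRingEquiv (f := σ) ?_, ?_⟩
    · intro x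
      have : (σ : F →+* F).comp (algebraMap (ZMod p) F) = algebraMap (ZMod p) F :=
        Subsingleton.elim _ _
      exact RingHom.congr_fun this x
    · ext x
      rfl
  exact isCyclic_of_surjective φ hφ

theorem perm_apply_inv {α : Type*} (y : Equiv.Perm α) (v : α) : y (y⁻¹ v) = v := y.apply_symm_apply v

theorem perm_inv_apply {α : Type*} (y : Equiv.Perm α) (v : α) : y⁻¹ (y v) = v := y.symm_apply_apply v

theorem semi_mul {y z : Equiv.Perm V} {θ η : F ≃+* F} (hy : Semi F y θ) (hz : Semi F z η) :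
    Semi F (y * z) (θ * η) := by
  refine ⟨fun u v => ?_, fun a v => ?_⟩
  · rw [Equiv.Perm.mul_apply, hz.1, hy.1]; rfl
  · rw [Equiv.Perm.mul_apply, hz.2, hy.2]; rfl

theorem semi_inv {y : Equiv.Perm V} {θ : F ≃+* F} (hy : Semi F y θ) : Semi F y⁻¹ θ⁻¹ := by
  refine ⟨fun u v => ?_, fun a v => ?_⟩
  · apply y.injective
    rw [hy.1, perm_apply_inv, perm_apply_inv, perm_apply_inv]
  · apply y.injective
    rw [hy.2, perm_apply_inv, perm_apply_inv]
    congr 1
    exact (RingEquiv.apply_symm_apply θ a).symm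

theorem semi_scal (a : Fˣ) : Semi F (scal F V a) (1 : F ≃+* F) :=
  ⟨fun u v => by rw [scal_apply, scal_apply, scal_apply, smul_add], fun b v => by
    rw [scal_apply, scal_apply, smul_smul, smul_smul, mul_comm]; rfl⟩

theorem semi_zero {y : Equiv.Perm V} {θ : F ≃+* F} (hy : Semi F y θ) : y 0 = 0 := by
  have := hy.1 0 0
  rw [add_zero] at this
  exact left_eq_add.1 this

theorem semi_unique {y : Equiv.Perm V} {θ η : F ≃+* F} (hy : Semi F y θ) (hy' : Semi F y η) {v : V} (hv : v ≠ 0) :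
    θ = η := by
  ext a
  have h := hy.2 a v
  rw [hy'.2] at h
  have hyv : y v ≠ 0 := by
    intro h0
    apply hv
    apply y.injective
    rw [h0, semi_zero hy]
  exact (smul_left_injective F hyv h).symm

theorem scal_mul_comm {y : Equiv.Perm V} {θ : F ≃+* F} (hy : Semi F y θ) (a : Fˣ) :
    y * scal F V a = scal F V (Units.map θ.toMonoidHom a) * y := by
  ext v
  rw [Equiv.Perm.mul_apply, Equiv.Perm.mul_apply, scal_apply, scal_apply, hy.2]
  rfl

theorem eq_one_of_pow {p : ℕ} [Fact p.Prime] [CharP F p] {x : F} {k : ℕ} (h : x ^ p ^ k = 1) : x = 1 := by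
  have h1 : (x - 1) ^ p ^ k = 0 := by
    rw [sub_pow_char_pow, h, one_pow, sub_self]
  exact sub_eq_zero.1 ((pow_eq_zero_iff (pow_pos (Fact.out (p := p.Prime)).pos k).ne').1 h1)

/-- A linear element of `p`-power order with eigenvector `v` fixes it. -/
theorem fix_of_eigen {p : ℕ} [Fact p.Prime] [CharP F p] {y : Equiv.Perm V} (hy : Semi F y (1 : F ≃+* F)) {k : ℕ}
    (hk : y ^ p ^ k = 1) {v : V} {c : F} (hv : y v = c • v) : y v = v := by
  by_cases hv0 : v = 0
  · rw [hv0, semi_zero hy]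
  have h1 : ∀ n : ℕ, (y ^ n) v = c ^ n • v := by
    intro n
    induction n with
    | zero => simp
    | succ n ih =>
      rw [pow_succ', Equiv.Perm.mul_apply, ih, hy.2, hv, smul_smul, pow_succ]
      rfl
  have h2 := h1 (p ^ k)
  rw [hk, Equiv.Perm.one_apply] at h2
  have h3 : (1 : F) • v = c ^ p ^ k • v := by rw [one_smul]; exact h2
  have h4 := smul_left_injective F hv0 h3
  rw [eq_one_of_pow h4.symm, one_smul] at hv
  exact hv

/-- See the module docstring. -/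
def PG (F : Type u) [Field F] {V : Type v} [AddCommGroup V] [Module F V] (Γ : Subgroup (Equiv.Perm V))
    (g : Equiv.Perm V) : Prop :=
  ∀ y ∈ Γ, ∀ a : Fˣ, scal F V a * (g * y * g⁻¹) ∈ Γ →
    scal F V a * (g * y * g⁻¹) = y ∧ (Semi F y (1 : F ≃+* F) → y = 1)

/-- `Γ` is a `p`-group of semilinear maps. -/
structure PS (p : ℕ) (F : Type u) [Field F] {V : Type v} [AddCommGroup V] [Module F V]
    (Γ : Subgroup (Equiv.Perm V)) : Prop where
  grp : IsPGroup p Γ
  semi : ∀ y ∈ Γ, ∃ θ, Semi F y θ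

theorem PS.pow {p : ℕ} {Γ : Subgroup (Equiv.Perm V)} (h : PS p F Γ) {y : Equiv.Perm V} (hy : y ∈ Γ) :
    ∃ k : ℕ, y ^ p ^ k = 1 := by
  obtain ⟨k, hk⟩ := h.grp ⟨y, hy⟩
  exact ⟨k, congrArg Subtype.val hk⟩

end basics

section step

variable {F : Type u} [Field F] {C : Type w} [AddCommGroup C] [Module F C]

/-- `(c, x, z) ↦ (g' c, s z, t x)`. -/
def gW (t s : Fˣ) (g' : Equiv.Perm C) : Equiv.Perm (C × (F × F)) where
  toFun v := (g' v.1, ((s : F) * v.2.2, (t : F) * v.2.1))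
  invFun v := (g'⁻¹ v.1, ((t⁻¹ : Fˣ) : F) * v.2.2, ((s⁻¹ : Fˣ) : F) * v.2.1)
  left_inv v := by simp
  right_inv v := by simp

theorem gW_apply (t s : Fˣ) (g' : Equiv.Perm C) (c : C) (x z : F) :
    gW t s g' (c, (x, z)) = (g' c, ((s : F) * z, (t : F) * x)) := rfl

theorem gW_inv_apply (t s : Fˣ) (g' : Equiv.Perm C) (c : C) (x z : F) :
    (gW t s g')⁻¹ (c, (x, z)) = (g'⁻¹ c, (((t⁻¹ : Fˣ) : F) * z, ((s⁻¹ : Fˣ) : F) * x)) := rfl

theorem gW_semi {t s : Fˣ} {g' : Equiv.Perm C} (hg' : Semi F g' (1 : F ≃+* F)) :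
    Semi F (gW t s g') (1 : F ≃+* F) := by
  refine ⟨fun u v => ?_, fun a v => ?_⟩
  · obtain ⟨c, x, z⟩ := u
    obtain ⟨c', x', z'⟩ := v
    simp only [Prod.mk_add_mk, gW_apply, hg'.1, mul_add]
  · obtain ⟨c', x', z'⟩ := v
    simp only [Prod.smul_mk, gW_apply, hg'.2, smul_eq_mul]
    refine Prod.ext rfl (Prod.ext ?_ ?_)
    · change (s : F) * (a * z') = a * (s * z'); ring
    · change (t : F) * (a * x') = a * (t * x'); ring

/-- The hypotheses of the inductive step. -/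
structure St (Γ : Subgroup (Equiv.Perm (C × (F × F)))) : Prop where
  fix : ∀ y ∈ Γ, y (0, (1, 0)) = (0, (1, 0))
  hyp : ∀ y ∈ Γ, ∀ (c : C) (x : F), (y (c, (x, 0))).2.2 = 0

variable {p : ℕ} {Γ : Subgroup (Equiv.Perm (C × (F × F)))}

theorem St.apply (hS : St Γ) (hP : PS p F Γ) {y : Equiv.Perm (C × (F × F))} (hy : y ∈ Γ) {θ : F ≃+* F}
    (hθ : Semi F y θ) (c : C) (x : F) : y (c, (x, 0)) = ((y (c, (0, 0))).1, ((y (c, (0, 0))).2.1 + θ x, 0)) := by
  have e : ((c, (x, 0)) : C × (F × F)) = (c, (0, 0)) + x • (0, (1, 0)) := by simp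
  rw [e, hθ.1, hθ.2, hS.fix y hy]
  have h0 := hS.hyp y hy c 0
  refine Prod.ext ?_ (Prod.ext ?_ ?_)
  · simp
  · simp
  · simp [h0]

/-- The induced map on `C`. -/
def barF (y : Equiv.Perm (C × (F × F))) (c : C) : C := (y (c, (0, 0))).1

theorem barF_mul (hS : St Γ) (hP : PS p F Γ) {y z : Equiv.Perm (C × (F × F))} (hy : y ∈ Γ) (hz : z ∈ Γ) (c : C) :
    barF (y * z) c = barF y (barF z c) := by
  obtain ⟨θ, hθ⟩ := hP.semi y hy
  have h1 : z (c, (0, 0)) = (barF z c, ((z (c, (0, 0))).2.1, 0)) :=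
    Prod.ext rfl (Prod.ext rfl (hS.hyp z hz c 0))
  change (y (z (c, (0, 0)))).1 = _
  rw [h1, hS.apply hP hy hθ]
  rfl

/-- The action on `C`. -/
@[reducible] def barAct (hS : St Γ) (hP : PS p F Γ) : MulAction Γ C where
  smul y c := barF y.1 c
  one_smul c := rfl
  mul_smul y z c := barF_mul hS hP y.2 z.2 c

/-- The homomorphism to the permutations of `C`. -/
def barHom (hS : St Γ) (hP : PS p F Γ) : Γ →* Equiv.Perm C :=
  @MulAction.toPermHom Γ C _ (barAct hS hP)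

theorem barHom_apply (hS : St Γ) (hP : PS p F Γ) (y : Γ) (c : C) : barHom hS hP y c = barF y.1 c := rfl

/-- The group induced on `C`. -/
def bar (hS : St Γ) (hP : PS p F Γ) : Subgroup (Equiv.Perm C) := (barHom hS hP).range

theorem bar_semi (hS : St Γ) (hP : PS p F Γ) (y : Γ) {θ : F ≃+* F} (hθ : Semi F y.1 θ) :
    Semi F (barHom hS hP y) θ := by
  refine ⟨fun u v => ?_, fun a v => ?_⟩
  · rw [barHom_apply, barHom_apply, barHom_apply, barF, barF, barF, ← Prod.fst_add, ← hθ.1]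
    simp
  · rw [barHom_apply, barHom_apply, barF, barF, ← Prod.smul_fst, ← hθ.2]
    simp

theorem bar_PS (hS : St Γ) (hP : PS p F Γ) : PS p F (bar hS hP) := by
  refine ⟨?_, ?_⟩
  · rintro ⟨z, y, rfl⟩
    obtain ⟨k, hk⟩ := hP.grp y
    refine ⟨k, Subtype.ext ?_⟩
    change (barHom hS hP y) ^ p ^ k = 1
    rw [← map_pow, hk, map_one]
  · rintro z ⟨y, rfl⟩
    obtain ⟨θ, hθ⟩ := hP.semi y y.2
    exact ⟨θ, bar_semi hS hP y hθ⟩

/-- The data used several times: `y ∈ Γ` with `y₁ = a g y g⁻¹ ∈ Γ`, `g = gW t s g'`. -/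
theorem data (hS : St Γ) (hP : PS p F Γ) {t s : Fˣ} {g' : Equiv.Perm C} (hg' : Semi F g' (1 : F ≃+* F))
    {y : Equiv.Perm (C × (F × F))} (hy : y ∈ Γ) {a : Fˣ}
    (hy1 : scal F (C × (F × F)) a * (gW t s g' * y * (gW t s g')⁻¹) ∈ Γ) :
    (∀ c, y (c, (0, 0)) = (barF y c, (0, 0))) ∧
    (∀ c, (scal F (C × (F × F)) a * (gW t s g' * y * (gW t s g')⁻¹)) (c, (0, 0)) =
      (barF (scal F (C × (F × F)) a * (gW t s g' * y * (gW t s g')⁻¹)) c, (0, 0))) ∧
    (∀ c, barF (scal F (C × (F × F)) a * (gW t s g' * y * (gW t s g')⁻¹)) c =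
      (scal F C a * (g' * barHom hS hP ⟨y, hy⟩ * g'⁻¹)) c) ∧
    (∃ l : F, y (0, (0, 1)) = l • (0, (0, 1))) ∧
    (∃ l : F, (scal F (C × (F × F)) a * (gW t s g' * y * (gW t s g')⁻¹)) (0, (0, 1)) = l • (0, (0, 1))) := by
  obtain ⟨θ, hθ⟩ := hP.semi y hy
  set g := gW t s g' with hg
  set y1 := scal F (C × (F × F)) a * (g * y * g⁻¹) with hy1d
  have hgs : Semi F g (1 : F ≃+* F) := gW_semi hg'
  have hg0 : g' 0 = 0 := semi_zero hg'
  have hg0' : g'⁻¹ 0 = 0 := semi_zero (semi_inv hg')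
  have happ : ∀ v, y1 v = (a : F) • g (y (g⁻¹ v)) := fun v => rfl
  have ha := a.ne_zero
  have hs := s.ne_zero
  have ht := t.ne_zero
  -- `y` preserves the line of `f`
  have h1 : ∃ l : F, y (0, (0, 1)) = l • (0, (0, 1)) := by
    have e1 := hS.fix y1 hy1
    rw [happ, hg, gW_inv_apply, hg0', ← hg] at e1
    have e2 : ((0 : C), (((t⁻¹ : Fˣ) : F) * 0, ((s⁻¹ : Fˣ) : F) * 1)) = ((s⁻¹ : Fˣ) : F) • ((0 : C), ((0 : F), (1 : F))) := by
      simp
    rw [e2, hθ.2] at e1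
    obtain ⟨⟨c, x, z⟩, hcxz⟩ : ∃ w, y ((0 : C), ((0 : F), (1 : F))) = w := ⟨_, rfl⟩
    rw [hcxz, hgs.2, hg, gW_apply] at e1
    have hk : θ ((s⁻¹ : Fˣ) : F) ≠ 0 := by
      rw [Ne, map_eq_zero_iff θ θ.injective]; exact (s⁻¹).ne_zero
    have e3 := congrArg Prod.fst e1
    have e4 := congrArg (fun w => w.2.2) e1
    simp only [Prod.smul_mk, RingAut.one_apply, smul_eq_mul] at e3 e4
    rw [smul_eq_zero_iff_right ha, smul_eq_zero_iff_right hk] at e3
    have e5 : c = 0 := by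
      apply g'.injective
      rw [e3, hg0]
    have e6 : x = 0 := by
      rcases mul_eq_zero.1 e4 with h | h
      · exact absurd h ha
      rcases mul_eq_zero.1 h with h | h
      · exact absurd h hk
      rcases mul_eq_zero.1 h with h | h
      · exact absurd h ht
      · exact h
    refine ⟨z, ?_⟩
    rw [hcxz, e5, e6]
    simp
  have h2 : ∀ c, y (c, (0, 0)) = (barF y c, (0, 0)) := by
    intro c
    have e1 := hS.hyp y1 hy1 (g' c) 0
    rw [happ, hg, gW_inv_apply, perm_inv_apply, ← hg] at e1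
    simp only [mul_zero] at e1
    have e0 := hS.hyp y hy c 0
    obtain ⟨⟨c', x, z⟩, hcxz⟩ : ∃ w, y (c, ((0 : F), (0 : F))) = w := ⟨_, rfl⟩
    rw [hcxz] at e1 e0
    rw [barF, hcxz]
    rw [hg, gW_apply] at e1
    simp only [Prod.smul_mk, smul_eq_mul] at e1
    have e6 : x = 0 := by
      rcases mul_eq_zero.1 e1 with h | h
      · exact absurd h ha
      rcases mul_eq_zero.1 h with h | h
      · exact absurd h ht
      · exact h
    have e7 : z = 0 := e0
    rw [e6, e7]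
  have h3 : ∀ c, y1 (c, (0, 0)) = ((a : F) • g' (barF y (g'⁻¹ c)), (0, 0)) := by
    intro c
    rw [happ, hg, gW_inv_apply]
    simp only [mul_zero]
    rw [h2, gW_apply]
    simp
  refine ⟨h2, fun c => ?_, fun c => ?_, h1, ?_⟩
  · rw [barF, h3]
  · rw [barF, h3]
    rfl
  · refine ⟨(a : F) * ((t : F) * θ ((t⁻¹ : Fˣ) : F)), ?_⟩
    rw [happ, hg, gW_inv_apply, hg0']
    have e2 : ((0 : C), (((t⁻¹ : Fˣ) : F) * 1, ((s⁻¹ : Fˣ) : F) * 0)) = ((t⁻¹ : Fˣ) : F) • ((0 : C), ((1 : F), (0 : F))) := by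
      simp
    rw [e2, hθ.2, hS.fix y hy]
    have e3 : θ ((t⁻¹ : Fˣ) : F) • ((0 : C), ((1 : F), (0 : F))) = (0, (θ ((t⁻¹ : Fˣ) : F), 0)) := by simp
    rw [e3, gW_apply, hg0]
    simp

/-- Equality of semilinear maps of `C × (F × F)`. -/
theorem ext_of {y z : Equiv.Perm (C × (F × F))} {θ : F ≃+* F} (hy : Semi F y θ) (hz : Semi F z θ)
    (h1 : ∀ c, y (c, (0, 0)) = z (c, (0, 0))) (h2 : y (0, (1, 0)) = z (0, (1, 0)))
    (h3 : y (0, (0, 1)) = z (0, (0, 1))) : y = z := by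
  ext1 ⟨c, a, b⟩
  have e : ((c, (a, b)) : C × (F × F)) = (c, (0, 0)) + (a • (0, (1, 0)) + b • (0, (0, 1))) := by simp
  rw [e, hy.1, hy.1, hy.2, hy.2, hz.1, hz.1, hz.2, hz.2, h1, h2, h3]

/-- **The inductive step.** -/
theorem step [Fact p.Prime] [CharP F p] (hS : St Γ) (hP : PS p F Γ) {t s : Fˣ} {g' : Equiv.Perm C}
    (hg' : Semi F g' (1 : F ≃+* F)) (hPG : PG F (bar hS hP) g') : PG F Γ (gW t s g') := by
  intro y hy a hy1
  obtain ⟨θ, hθ⟩ := hP.semi y hy
  obtain ⟨d1, d2, d3, ⟨l, d4⟩, ⟨l1, d5⟩⟩ := data hS hP hg' hy hy1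
  set y1 := scal F (C × (F × F)) a * (gW t s g' * y * (gW t s g')⁻¹) with hy1d
  -- the induced maps
  have hm : scal F C a * (g' * barHom hS hP ⟨y, hy⟩ * g'⁻¹) = barHom hS hP ⟨y1, hy1⟩ := by
    ext1 c
    rw [← d3]
    rfl
  obtain ⟨k1, k2⟩ := hPG (barHom hS hP ⟨y, hy⟩) ⟨_, rfl⟩ a (by rw [hm]; exact ⟨_, rfl⟩)
  rw [hm] at k1
  have k3 : ∀ c, barF y1 c = barF y c := fun c => congrArg (fun z : Equiv.Perm C => z c) k1
  -- the linear element `y⁻¹ y₁`
  have hθ1 : Semi F y1 θ := by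
    have h := semi_mul (semi_scal (V := C × (F × F)) a)
      (semi_mul (semi_mul (gW_semi (t := t) (s := s) hg') hθ) (semi_inv (gW_semi (t := t) (s := s) hg')))
    rw [one_mul, one_mul, inv_one, mul_one] at h
    exact h
  have hz : y⁻¹ * y1 ∈ Γ := Γ.mul_mem (Γ.inv_mem hy) hy1
  have hzl : Semi F (y⁻¹ * y1) (1 : F ≃+* F) := by
    have h := semi_mul (semi_inv hθ) hθ1
    rwa [inv_mul_cancel] at h
  obtain ⟨k, hk⟩ := hP.pow hz
  obtain ⟨k', hk'⟩ := hP.pow hy
  have hl : l ≠ 0 := by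
    rintro rfl
    rw [zero_smul, ← semi_zero hθ] at d4
    have := y.injective d4
    simp at this
  have hz1 : (y⁻¹ * y1) ((0 : C), ((0 : F), (1 : F))) = (θ⁻¹ (l1 * l⁻¹)) • ((0 : C), ((0 : F), (1 : F))) := by
    apply y.injective
    rw [Equiv.Perm.mul_apply, perm_apply_inv, d5, hθ.2, d4, smul_smul]
    congr 1
    change l1 = θ (θ.symm (l1 * l⁻¹)) * l
    rw [RingEquiv.apply_symm_apply, mul_assoc, inv_mul_cancel₀ hl, mul_one]
  have hz2 := fix_of_eigen hzl hk hz1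
  have hyy : y1 = y := by
    apply ext_of hθ1 hθ
    · intro c
      rw [d1, d2, k3]
    · rw [hS.fix y hy, hS.fix y1 hy1]
    · have := congrArg y hz2
      rwa [Equiv.Perm.mul_apply, perm_apply_inv] at this
  refine ⟨hyy, fun hlin => ?_⟩
  have k4 := k2 (bar_semi hS hP ⟨y, hy⟩ hlin)
  apply ext_of hlin (θ := 1) ⟨fun _ _ => rfl, fun _ _ => rfl⟩
  · intro c
    rw [d1]
    have : barF y c = c := congrArg (fun z : Equiv.Perm C => z c) k4
    rw [this]
    rfl
  · rw [hS.fix y hy]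
    rfl
  · exact fix_of_eigen hlin hk' d4

/-- In a cyclic group two nontrivial elements of `p`-power order have a common nontrivial power. -/
theorem exists_common {A : Type*} [Group A] [Finite A] [IsCyclic A] {p : ℕ} [Fact p.Prime] {x y : A} (hx : x ≠ 1)
    (hy : y ≠ 1) (hxk : ∃ k : ℕ, x ^ p ^ k = 1) (hyk : ∃ k : ℕ, y ^ p ^ k = 1) :
    ∃ i j : ℕ, x ^ i = y ^ j ∧ x ^ i ≠ 1 := by
  classical
  have hp := Fact.out (p := p.Prime)
  have key : ∀ x : A, x ≠ 1 → (∃ k : ℕ, x ^ p ^ k = 1) → ∃ i : ℕ, orderOf (x ^ i) = p := by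
    rintro x hx ⟨k, hk⟩
    obtain ⟨m, -, hm⟩ := (Nat.dvd_prime_pow hp).1 (orderOf_dvd_of_pow_eq_one hk)
    have hm0 : m ≠ 0 := by
      rintro rfl
      rw [pow_zero, orderOf_eq_one_iff] at hm
      exact hx hm
    obtain ⟨m, rfl⟩ := Nat.exists_eq_succ_of_ne_zero hm0
    refine ⟨p ^ m, ?_⟩
    rw [orderOf_pow' x (pow_pos hp.pos m).ne', hm]
    have : Nat.gcd (p ^ m.succ) (p ^ m) = p ^ m := Nat.gcd_eq_right (pow_dvd_pow p (Nat.le_succ m))
    rw [this, pow_succ, Nat.mul_div_cancel_left _ (pow_pos hp.pos m)]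
  obtain ⟨i, hi⟩ := key x hx hxk
  obtain ⟨j, hj⟩ := key y hy hyk
  have := Fintype.ofFinite A
  have h1 : (Finset.univ.filter fun a : A => a ^ p = 1).card ≤ p := IsCyclic.card_pow_eq_one_le hp.pos
  have h2 : (Finset.univ.filter fun a : A => a ∈ Subgroup.zpowers (x ^ i)) ⊆
      Finset.univ.filter fun a : A => a ^ p = 1 := by
    intro a ha
    rw [Finset.mem_filter] at ha ⊢
    obtain ⟨n, rfl⟩ := Subgroup.mem_zpowers_iff.1 ha.2
    refine ⟨Finset.mem_univ _, ?_⟩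
    rw [← zpow_natCast, ← zpow_mul, mul_comm, zpow_mul, zpow_natCast, ← hi, pow_orderOf_eq_one, one_zpow]
  have h3 : (Finset.univ.filter fun a : A => a ∈ Subgroup.zpowers (x ^ i)).card = p := by
    rw [← Fintype.card_subtype, ← hi, ← Nat.card_zpowers, Nat.card_eq_fintype_card]
  have h4 := Finset.eq_of_subset_of_card_le h2 (by rw [h3]; exact h1)
  have h5 : y ^ j ∈ Finset.univ.filter fun a : A => a ∈ Subgroup.zpowers (x ^ i) := by
    rw [h4, Finset.mem_filter]
    refine ⟨Finset.mem_univ _, ?_⟩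
    rw [← hj, pow_orderOf_eq_one]
  rw [Finset.mem_filter, mem_zpowers_iff_mem_range_orderOf] at h5
  obtain ⟨n, -, hn⟩ := Finset.mem_image.1 h5.2
  refine ⟨i * n, j, ?_, ?_⟩
  · rw [pow_mul]; exact hn
  · rw [pow_mul, hn]
    intro h
    rw [h, orderOf_one] at hj
    exact hp.one_lt.ne hj

/-- The monoid of the elements of `Γ` which look diagonal. -/
def DD (hS : St Γ) (hP : PS p F Γ) (g' : Equiv.Perm C) (hg' : Semi F g' (1 : F ≃+* F)) :
    Submonoid (Equiv.Perm (C × (F × F))) where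
  carrier := {z | ∃ h : z ∈ Γ, (∀ c, z (c, (0, 0)) = (barF z c, (0, 0))) ∧ (∃ l : F, z (0, (0, 1)) = l • (0, (0, 1))) ∧
    ∃ a : Fˣ, scal F C a * (g' * barHom hS hP ⟨z, h⟩ * g'⁻¹) ∈ bar hS hP}
  one_mem' := by
    refine ⟨Γ.one_mem, fun c => rfl, ⟨1, by simp⟩, 1, ?_⟩
    have : barHom hS hP ⟨1, Γ.one_mem⟩ = 1 := map_one (barHom hS hP)
    rw [this, map_one, mul_one, mul_inv_cancel, one_mul]
    exact Subgroup.one_mem _
  mul_mem' := by
    rintro y z ⟨hy, hy1, ⟨l, hl⟩, a, ha⟩ ⟨hz, hz1, ⟨m, hm⟩, b, hb⟩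
    obtain ⟨θ, hθ⟩ := hP.semi y hy
    have hmul : barHom hS hP ⟨y * z, Γ.mul_mem hy hz⟩ = barHom hS hP ⟨y, hy⟩ * barHom hS hP ⟨z, hz⟩ :=
      map_mul (barHom hS hP) ⟨y, hy⟩ ⟨z, hz⟩
    refine ⟨Γ.mul_mem hy hz, fun c => ?_, ⟨θ m * l, ?_⟩, a * Units.map θ.toMonoidHom b, ?_⟩
    · rw [Equiv.Perm.mul_apply, hz1, hy1, barF_mul hS hP hy hz]
    · rw [Equiv.Perm.mul_apply, hm, hθ.2, hl, smul_smul]
    · have h1 := Subgroup.mul_mem _ ha hb
      have h2 : Semi F (g' * barHom hS hP ⟨y, hy⟩ * g'⁻¹) θ := by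
        have h := semi_mul (semi_mul hg' (bar_semi hS hP ⟨y, hy⟩ hθ)) (semi_inv hg')
        rwa [one_mul, inv_one, mul_one] at h
      have h3 := scal_mul_comm h2 b
      rw [hmul, map_mul]
      convert h1 using 1
      calc scal F C a * scal F C (Units.map θ.toMonoidHom b) *
            (g' * (barHom hS hP ⟨y, hy⟩ * barHom hS hP ⟨z, hz⟩) * g'⁻¹)
          = scal F C a * (scal F C (Units.map θ.toMonoidHom b) * (g' * barHom hS hP ⟨y, hy⟩ * g'⁻¹)) *
              (g' * barHom hS hP ⟨z, hz⟩ * g'⁻¹) := by group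
        _ = scal F C a * (g' * barHom hS hP ⟨y, hy⟩ * g'⁻¹) *
              (scal F C b * (g' * barHom hS hP ⟨z, hz⟩ * g'⁻¹)) := by rw [← h3]; group

theorem DD_lin [Fact p.Prime] [CharP F p] (hS : St Γ) (hP : PS p F Γ) {g' : Equiv.Perm C}
    (hg' : Semi F g' (1 : F ≃+* F)) (hPG : PG F (bar hS hP) g') {z : Equiv.Perm (C × (F × F))}
    (hz : z ∈ DD hS hP g' hg') (hlin : Semi F z (1 : F ≃+* F)) : z = 1 := by
  obtain ⟨h, h1, ⟨l, h2⟩, a, ha⟩ := hz
  obtain ⟨-, k2⟩ := hPG _ ⟨_, rfl⟩ a ha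
  obtain ⟨k, hk⟩ := hP.pow h
  have k4 := k2 (bar_semi hS hP ⟨z, h⟩ hlin)
  apply ext_of hlin (θ := 1) ⟨fun _ _ => rfl, fun _ _ => rfl⟩
  · intro c
    rw [h1]
    have : barF z c = c := congrArg (fun z : Equiv.Perm C => z c) k4
    rw [this]
    rfl
  · rw [hS.fix z h]
    rfl
  · exact fix_of_eigen hlin hk h2

theorem mem_DD (hS : St Γ) (hP : PS p F Γ) {t s : Fˣ} {g' : Equiv.Perm C} (hg' : Semi F g' (1 : F ≃+* F))
    {y : Equiv.Perm (C × (F × F))} (hy : y ∈ Γ) {a : Fˣ}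
    (hy1 : scal F (C × (F × F)) a * (gW t s g' * y * (gW t s g')⁻¹) ∈ Γ) : y ∈ DD hS hP g' hg' := by
  obtain ⟨d1, d2, d3, d4, d5⟩ := data hS hP hg' hy hy1
  refine ⟨hy, d1, d4, a, ?_⟩
  set y1 := scal F (C × (F × F)) a * (gW t s g' * y * (gW t s g')⁻¹) with hy1d
  have hm : scal F C a * (g' * barHom hS hP ⟨y, hy⟩ * g'⁻¹) = barHom hS hP ⟨y1, hy1⟩ := by
    ext1 c
    rw [← d3]
    rfl
  rw [hm]
  exact ⟨_, rfl⟩

/-- Powers of an element commuting with `g` up to scalars. -/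
theorem comm_pow {V : Type v} [AddCommGroup V] [Module F V] {g y : Equiv.Perm V} {θ : F ≃+* F} (hθ : Semi F y θ)
    {a : Fˣ} (h : g * y * g⁻¹ = scal F V a * y) (i : ℕ) : ∃ c : Fˣ, g * y ^ i * g⁻¹ = scal F V c * y ^ i := by
  induction i with
  | zero => exact ⟨1, by simp⟩
  | succ i ih =>
    obtain ⟨c, hc⟩ := ih
    refine ⟨a * Units.map θ.toMonoidHom c, ?_⟩
    have e : g * y ^ (i + 1) * g⁻¹ = (g * y * g⁻¹) * (g * y ^ i * g⁻¹) := by rw [pow_succ']; group
    rw [e, h, hc, map_mul, pow_succ']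
    calc scal F V a * y * (scal F V c * y ^ i) = scal F V a * (y * scal F V c) * y ^ i := by group
      _ = _ := by rw [scal_mul_comm hθ]; group

theorem semi_pow {V : Type v} [AddCommGroup V] [Module F V] {y : Equiv.Perm V} {θ : F ≃+* F} (hθ : Semi F y θ)
    (i : ℕ) : Semi F (y ^ i) (θ ^ i) := by
  induction i with
  | zero => exact ⟨fun _ _ => rfl, fun _ _ => rfl⟩
  | succ i ih => rw [pow_succ, pow_succ]; exact semi_mul ih hθ

/-- **The separation statement.** -/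
theorem sep [Finite F] [Fact p.Prime] [CharP F p] (hS : St Γ) (hP : PS p F Γ) {g' : Equiv.Perm C}
    (hg' : Semi F g' (1 : F ≃+* F)) (hPG : PG F (bar hS hP) g') (t s u v : Fˣ)
    (hu : ∀ θ : F ≃+* F, (∃ k : ℕ, θ ^ p ^ k = 1) → ∀ c : F, (u : F) = c * θ u → (v : F) = c * θ v →
      ((∃ c0 : C, c0 ≠ 0) → c = 1) → θ = 1) :
    (∀ y ∈ Γ, (∃ a : Fˣ, scal F _ a * (gW t s g' * y * (gW t s g')⁻¹) ∈ Γ) → ∃ b : Fˣ, y = scal F _ b) ∨
    (∀ y ∈ Γ, (∃ a : Fˣ, scal F _ a * (gW (t * u) (s * v) g' * y * (gW (t * u) (s * v) g')⁻¹) ∈ Γ) →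
      ∃ b : Fˣ, y = scal F _ b) := by
  by_contra hcon
  push Not at hcon
  obtain ⟨⟨y, hy, ⟨a, hya⟩, hys⟩, y', hy', ⟨a', hya'⟩, hys'⟩ := hcon
  have hyD := mem_DD hS hP hg' hy hya
  have hyD' := mem_DD hS hP hg' hy' hya'
  obtain ⟨e1, e1'⟩ := step hS hP (t := t) (s := s) hg' hPG y hy a hya
  obtain ⟨e2, e2'⟩ := step hS hP (t := t * u) (s := s * v) hg' hPG y' hy' a' hya'
  have hy0 : y ≠ 1 := fun h => hys 1 (by rw [h, map_one])
  have hy0' : y' ≠ 1 := fun h => hys' 1 (by rw [h, map_one])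
  obtain ⟨θ, hθ⟩ := hP.semi y hy
  obtain ⟨θ', hθ'⟩ := hP.semi y' hy'
  have hθ0 : θ ≠ 1 := by rintro rfl; exact hy0 (e1' hθ)
  have hθ0' : θ' ≠ 1 := by rintro rfl; exact hy0' (e2' hθ')
  obtain ⟨k, hk⟩ := hP.pow hy
  obtain ⟨k', hk'⟩ := hP.pow hy'
  have hv0 : ((0 : C), ((1 : F), (0 : F))) ≠ 0 := by simp
  have hθk : θ ^ p ^ k = 1 := by
    have h := semi_pow hθ (p ^ k)
    rw [hk] at h
    exact semi_unique h ⟨fun _ _ => rfl, fun _ _ => rfl⟩ hv0
  have hθk' : θ' ^ p ^ k' = 1 := by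
    have h := semi_pow hθ' (p ^ k')
    rw [hk'] at h
    exact semi_unique h ⟨fun _ _ => rfl, fun _ _ => rfl⟩ hv0
  have : IsCyclic (F ≃+* F) := isCyclic_ringEquiv F
  have : Finite (F ≃+* F) := DFunLike.finite _
  obtain ⟨i, j, hij, hij0⟩ := exists_common hθ0 hθ0' ⟨k, hθk⟩ ⟨k', hθk'⟩
  set η := θ ^ i with hη
  have hzη : Semi F (y ^ i) η := semi_pow hθ i
  have hzη' : Semi F (y' ^ j) η := by rw [hij]; exact semi_pow hθ' j
  have hz : y ^ i = y' ^ j := by
    have h1 : (y ^ i) ^ (p ^ k) = 1 := by rw [← pow_mul, mul_comm, pow_mul, hk, one_pow]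
    have h2 : (y ^ i) ^ (p ^ k - 1) * (y ^ i) = 1 := by
      rw [← pow_succ, Nat.sub_add_cancel (pow_pos (Fact.out (p := p.Prime)).pos k), h1]
    have h3 : (y ^ i) ^ (p ^ k - 1) = (y ^ i)⁻¹ := eq_inv_of_mul_eq_one_left h2
    have h4 : (y ^ i)⁻¹ * y' ^ j ∈ DD hS hP g' hg' := by
      rw [← h3]
      exact mul_mem (pow_mem (pow_mem hyD i) _) (pow_mem hyD' j)
    have h5 := DD_lin hS hP hg' hPG h4 (by
      have h := semi_mul (semi_inv hzη) hzη'
      rwa [inv_mul_cancel] at h)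
    exact (inv_mul_eq_one.1 h5)
  have hzD : y ^ i ∈ DD hS hP g' hg' := pow_mem hyD i
  -- commutation with `g` and `g₂`
  have c1 : gW t s g' * y * (gW t s g')⁻¹ = scal F _ a⁻¹ * y := by
    nth_rw 2 [← e1]
    rw [← mul_assoc (scal F _ a⁻¹), ← map_mul, inv_mul_cancel, map_one, one_mul]
  have c2 : gW (t * u) (s * v) g' * y' * (gW (t * u) (s * v) g')⁻¹ = scal F _ a'⁻¹ * y' := by
    nth_rw 2 [← e2]
    rw [← mul_assoc (scal F _ a'⁻¹), ← map_mul, inv_mul_cancel, map_one, one_mul]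
  obtain ⟨c, hc⟩ := comm_pow hθ c1 i
  obtain ⟨c', hc'⟩ := comm_pow hθ' c2 j
  rw [← hz] at hc'
  set z := y ^ i with hzdef
  obtain ⟨hzΓ, z1, ⟨l, z2⟩, -⟩ := hzD
  have z3 := hS.fix z hzΓ
  have comm : ∀ {g : Equiv.Perm (C × (F × F))} {c : Fˣ}, g * z * g⁻¹ = scal F _ c * z →
      ∀ w, g (z w) = (c : F) • z (g w) := by
    intro g c h w
    have h1 := congrArg (fun f : Equiv.Perm (C × (F × F)) => f (g w)) h
    simp only [Equiv.Perm.mul_apply, perm_inv_apply, scal_apply] at h1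
    exact h1
  have k1 := comm hc
  have k2 := comm hc'
  have hg0 : g' 0 = 0 := semi_zero hg'
  have hl : l ≠ 0 := by
    rintro rfl
    rw [zero_smul, ← semi_zero hzη] at z2
    have := z.injective z2
    simp at this
  -- values at `e`, `f`
  have vE : ∀ {T S c : Fˣ}, (∀ w, gW T S g' (z w) = (c : F) • z (gW T S g' w)) → (T : F) = c * (η T * l) := by
    intro T S c h
    have h1 := h (0, (1, 0))
    rw [z3, gW_apply, hg0] at h1
    have e3 : ((0 : C), ((S : F) * 0, (T : F) * 1)) = (T : F) • ((0 : C), ((0 : F), (1 : F))) := by simp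
    rw [e3, hzη.2, z2] at h1
    have h2 := congrArg (fun w => w.2.2) h1
    simpa using h2
  have vF : ∀ {T S c : Fˣ}, (∀ w, gW T S g' (z w) = (c : F) • z (gW T S g' w)) → (S : F) * l = c * η S := by
    intro T S c h
    have h1 := h (0, (0, 1))
    have e4 : l • ((0 : C), ((0 : F), (1 : F))) = (0, (0, l)) := by simp
    rw [z2, e4, gW_apply, gW_apply, hg0] at h1
    have e3 : ((0 : C), ((S : F) * 1, (T : F) * 0)) = (S : F) • ((0 : C), ((1 : F), (0 : F))) := by simp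
    rw [e3, hzη.2, z3] at h1
    have h2 := congrArg (fun w => w.2.1) h1
    simpa using h2
  have vC : ∀ {T S c : Fˣ}, (∀ w, gW T S g' (z w) = (c : F) • z (gW T S g' w)) →
      ∀ c0 : C, g' (barF z c0) = (c : F) • barF z (g' c0) := by
    intro T S c h c0
    have h1 := h (c0, (0, 0))
    rw [z1, gW_apply, gW_apply] at h1
    simp only [mul_zero] at h1
    rw [z1] at h1
    exact congrArg Prod.fst h1
  have a1 := vE k1
  have a2 := vE k2
  have b1 := vF k1
  have b2 := vF k2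
  have hc0 := c.ne_zero
  have ht0 := t.ne_zero
  have hs0 := s.ne_zero
  have hηt : η (t : F) ≠ 0 := by rw [Ne, map_eq_zero_iff η η.injective]; exact ht0
  have hηs : η (s : F) ≠ 0 := by rw [Ne, map_eq_zero_iff η η.injective]; exact hs0
  rw [Units.val_mul, map_mul] at a2 b2
  apply hij0
  refine hu η ⟨k, ?_⟩ ((c' : F) * (c : F)⁻¹) ?_ ?_ ?_
  · rw [hη, ← pow_mul, mul_comm, pow_mul, hθk, one_pow]
  · have : (t : F) * (u - (c' : F) * (c : F)⁻¹ * η u) = 0 := by
      rw [mul_sub, a2]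
      nth_rw 2 [a1]
      field_simp
      ring
    rcases mul_eq_zero.1 this with h | h
    · exact absurd h ht0
    · exact sub_eq_zero.1 h
  · have : (s : F) * l * (v - (c' : F) * (c : F)⁻¹ * η v) = 0 := by
      have b3 : (s : F) * l * v = (c' : F) * (η s * η v) := by rw [← b2]; ring
      rw [mul_sub, b3, b1]
      field_simp
      ring
    rcases mul_eq_zero.1 this with h | h
    · exact absurd h (mul_ne_zero hs0 hl)
    · exact sub_eq_zero.1 h
  · rintro ⟨c0, hc00⟩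
    have f1 := vC k1 c0
    have f2 := vC k2 c0
    have hne : barF z (g' c0) ≠ 0 := by
      intro h0
      have h1 := z1 (g' c0)
      rw [h0] at h1
      have h2 : z (g' c0, ((0 : F), (0 : F))) = z 0 := by rw [h1, semi_zero hzη]; rfl
      have h3 := congrArg Prod.fst (z.injective h2)
      apply hc00
      apply g'.injective
      rw [hg0]
      exact h3
    have f3 : (c : F) = c' := smul_left_injective F hne (f1.symm.trans f2)
    rw [← f3, mul_inv_cancel₀ hc0]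

end step

end Cfsg.Agent.H126.SepStep
end

-- part: H126/SepMain
section
/-!
# Separation in defining characteristic: decompositions and the linear case (helper126, tasks 459-462 of helper903)
-/

set_option autoImplicit false
set_option linter.unusedSectionVars false
set_option linter.unusedVariables false

namespace Cfsg.Agent.H126.SepMain

open Module Cfsg.Agent.H903.SylSemi Cfsg.Agent.H126.SepStep

universe u v w

section dec

variable {F : Type u} [Field F] {V : Type v} [AddCommGroup V] [Module F V]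

/-- The decomposition `V = C ⊕ (F e ⊕ F f)` from functionals `ψ`, `φ` dual to `e`, `f`. -/
def decE (ψ φ : V →ₗ[F] F) (e f : V) (h1 : ψ e = 1) (h2 : ψ f = 0) (h3 : φ e = 0) (h4 : φ f = 1) :
    V ≃ₗ[F] ↥(LinearMap.ker ψ ⊓ LinearMap.ker φ) × (F × F) where
  toFun v := (⟨v - ψ v • e - φ v • f, by
    refine ⟨?_, ?_⟩
    · rw [SetLike.mem_coe, LinearMap.mem_ker, map_sub, map_sub, map_smul, map_smul, h1, h2]; simp
    · rw [SetLike.mem_coe, LinearMap.mem_ker, map_sub, map_sub, map_smul, map_smul, h3, h4]; simp⟩, (ψ v, φ v))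
  invFun w := (w.1 : V) + w.2.1 • e + w.2.2 • f
  map_add' u v := by
    refine Prod.ext (Subtype.ext ?_) (Prod.ext ?_ ?_)
    · simp only [map_add, Prod.fst_add, Submodule.coe_add]
      module
    · simp
    · simp
  map_smul' a v := by
    refine Prod.ext (Subtype.ext ?_) (Prod.ext ?_ ?_)
    · simp only [map_smul, RingHom.id_apply, Prod.smul_fst, Submodule.coe_smul, smul_eq_mul]
      module
    · simp
    · simp
  left_inv v := by
    change v - ψ v • e - φ v • f + ψ v • e + φ v • f = v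
    abel
  right_inv w := by
    obtain ⟨⟨c, hc1, hc2⟩, x, z⟩ := w
    have hc1' : ψ c = 0 := hc1
    have hc2' : φ c = 0 := hc2
    have e1 : ψ (c + x • e + z • f) = x := by simp [h1, h2, hc1']
    have e2 : φ (c + x • e + z • f) = z := by simp [h3, h4, hc2']
    refine Prod.ext (Subtype.ext ?_) (Prod.ext e1 e2)
    change c + x • e + z • f - ψ (c + x • e + z • f) • e - φ (c + x • e + z • f) • f = c
    rw [e1, e2]
    abel

variable {ψ φ : V →ₗ[F] F} {e f : V} {h1 : ψ e = 1} {h2 : ψ f = 0} {h3 : φ e = 0} {h4 : φ f = 1}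

theorem decE_symm_apply (w : ↥(LinearMap.ker ψ ⊓ LinearMap.ker φ) × (F × F)) :
    (decE ψ φ e f h1 h2 h3 h4).symm w = (w.1 : V) + w.2.1 • e + w.2.2 • f := rfl

end dec

section transport

variable {F : Type u} [Field F] {V : Type v} [AddCommGroup V] [Module F V] {W : Type w} [AddCommGroup W] [Module F W]

/-- Transport of permutations. -/
def tr (Φ : V ≃ₗ[F] W) : Equiv.Perm V ≃* Equiv.Perm W := Φ.toEquiv.permCongrHom

theorem tr_apply (Φ : V ≃ₗ[F] W) (y : Equiv.Perm V) (w : W) : tr Φ y w = Φ (y (Φ.symm w)) := rfl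

theorem tr_symm_apply (Φ : V ≃ₗ[F] W) (y : Equiv.Perm W) (v : V) : (tr Φ).symm y v = Φ.symm (y (Φ v)) := rfl

theorem tr_scal (Φ : V ≃ₗ[F] W) (a : Fˣ) : tr Φ (scal F V a) = scal F W a := by
  ext w
  rw [tr_apply, scal_apply, scal_apply, map_smul, LinearEquiv.apply_symm_apply]

theorem tr_semi (Φ : V ≃ₗ[F] W) {y : Equiv.Perm V} {θ : F ≃+* F} (h : Semi F y θ) : Semi F (tr Φ y) θ :=
  ⟨fun u v => by rw [tr_apply, tr_apply, tr_apply, map_add, h.1, map_add],
    fun a v => by rw [tr_apply, tr_apply, map_smul, h.2, map_smul]⟩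

theorem tr_symm_semi (Φ : V ≃ₗ[F] W) {y : Equiv.Perm W} {θ : F ≃+* F} (h : Semi F y θ) : Semi F ((tr Φ).symm y) θ :=
  ⟨fun u v => by rw [tr_symm_apply, tr_symm_apply, tr_symm_apply, map_add, h.1, map_add],
    fun a v => by rw [tr_symm_apply, tr_symm_apply, map_smul, h.2, map_smul]⟩

/-- The transported group. -/
def trG (Φ : V ≃ₗ[F] W) (Γ : Subgroup (Equiv.Perm V)) : Subgroup (Equiv.Perm W) := Γ.map (tr Φ).toMonoidHom

theorem mem_trG {Φ : V ≃ₗ[F] W} {Γ : Subgroup (Equiv.Perm V)} {y : Equiv.Perm V} : tr Φ y ∈ trG Φ Γ ↔ y ∈ Γ := by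
  constructor
  · rintro ⟨z, hz, h⟩
    have : z = y := (tr Φ).injective h
    rwa [← this]
  · intro h
    exact ⟨y, h, rfl⟩

theorem trG_PS {p : ℕ} {Φ : V ≃ₗ[F] W} {Γ : Subgroup (Equiv.Perm V)} (h : PS p F Γ) : PS p F (trG Φ Γ) := by
  refine ⟨h.grp.map _, ?_⟩
  rintro _ ⟨y, hy, rfl⟩
  obtain ⟨θ, hθ⟩ := h.semi y hy
  exact ⟨θ, tr_semi Φ hθ⟩

theorem PG_of_trG {Φ : V ≃ₗ[F] W} {Γ : Subgroup (Equiv.Perm V)} {g : Equiv.Perm W} (h : PG F (trG Φ Γ) g) :
    PG F Γ ((tr Φ).symm g) := by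
  intro y hy a ha
  have e : tr Φ (scal F V a * ((tr Φ).symm g * y * ((tr Φ).symm g)⁻¹)) = scal F W a * (g * tr Φ y * g⁻¹) := by
    rw [map_mul, map_mul, map_mul, map_inv, MulEquiv.apply_symm_apply, tr_scal]
  obtain ⟨k1, k2⟩ := h (tr Φ y) (mem_trG.2 hy) a (by rw [← e]; exact mem_trG.2 ha)
  refine ⟨(tr Φ).injective (by rw [e, k1]), fun hl => ?_⟩
  have := k2 (tr_semi Φ hl)
  exact (tr Φ).injective (by rw [this, map_one])

/-- The separation property. -/
def SepBy (F : Type u) [Field F] {V : Type v} [AddCommGroup V] [Module F V] (Γ : Subgroup (Equiv.Perm V))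
    (g : Equiv.Perm V) : Prop :=
  ∀ y ∈ Γ, (∃ a : Fˣ, scal F V a * (g * y * g⁻¹) ∈ Γ) → ∃ b : Fˣ, y = scal F V b

theorem SepBy_of_trG {Φ : V ≃ₗ[F] W} {Γ : Subgroup (Equiv.Perm V)} {g : Equiv.Perm W} (h : SepBy F (trG Φ Γ) g) :
    SepBy F Γ ((tr Φ).symm g) := by
  rintro y hy ⟨a, ha⟩
  have e : tr Φ (scal F V a * ((tr Φ).symm g * y * ((tr Φ).symm g)⁻¹)) = scal F W a * (g * tr Φ y * g⁻¹) := by
    rw [map_mul, map_mul, map_mul, map_inv, MulEquiv.apply_symm_apply, tr_scal]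
  obtain ⟨b, hb⟩ := h (tr Φ y) (mem_trG.2 hy) ⟨a, by rw [← e]; exact mem_trG.2 ha⟩
  exact ⟨b, (tr Φ).injective (by rw [hb, tr_scal])⟩

end transport

section decSt

variable {F : Type u} [Field F] {V : Type v} [AddCommGroup V] [Module F V]
variable {ψ φ : V →ₗ[F] F} {e f : V} {h1 : ψ e = 1} {h2 : ψ f = 0} {h3 : φ e = 0} {h4 : φ f = 1}

theorem decE_symm_e : (decE ψ φ e f h1 h2 h3 h4).symm (0, (1, 0)) = e := by
  rw [decE_symm_apply]
  change (0 : V) + (1 : F) • e + (0 : F) • f = e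
  simp

theorem St_decE {Γ : Subgroup (Equiv.Perm V)} (hfix : ∀ y ∈ Γ, y e = e) (hhyp : ∀ y ∈ Γ, ∀ v, φ v = 0 → φ (y v) = 0) :
    St (trG (decE ψ φ e f h1 h2 h3 h4) Γ) := by
  refine ⟨?_, ?_⟩
  · rintro _ ⟨y, hy, rfl⟩
    change (decE ψ φ e f h1 h2 h3 h4) (y ((decE ψ φ e f h1 h2 h3 h4).symm (0, (1, 0)))) = _
    rw [decE_symm_e, hfix y hy, ← LinearEquiv.eq_symm_apply, decE_symm_e]
  · rintro _ ⟨y, hy, rfl⟩ c x
    change φ (y ((decE ψ φ e f h1 h2 h3 h4).symm (c, (x, 0)))) = 0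
    apply hhyp y hy
    rw [decE_symm_apply]
    change φ ((c : V) + x • e + (0 : F) • f) = 0
    have hc : φ (c : V) = 0 := c.2.2
    rw [map_add, map_add, map_smul, map_smul, h3, hc]
    simp

end decSt

section det

variable {F : Type u} [Field F] {V : Type v} [AddCommGroup V] [Module F V]

/-- `g` is linear of determinant `d`. -/
def IsDet (F : Type u) [Field F] {V : Type v} [AddCommGroup V] [Module F V] (d : F) (g : Equiv.Perm V) : Prop :=
  ∃ L : V →ₗ[F] V, (∀ v, L v = g v) ∧ LinearMap.det L = d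

theorem isDet_one : IsDet F 1 (1 : Equiv.Perm V) := ⟨LinearMap.id, fun _ => rfl, LinearMap.det_id⟩

theorem IsDet.mul {d d' : F} {g g' : Equiv.Perm V} (h : IsDet F d g) (h' : IsDet F d' g') : IsDet F (d * d') (g * g') := by
  obtain ⟨L, hL, hd⟩ := h
  obtain ⟨L', hL', hd'⟩ := h'
  refine ⟨L * L', fun v => ?_, ?_⟩
  · rw [Module.End.mul_apply, hL', hL]; rfl
  · rw [map_mul, hd, hd']

theorem IsDet.semi {d : F} {g : Equiv.Perm V} (h : IsDet F d g) : Semi F g (1 : F ≃+* F) := by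
  obtain ⟨L, hL, -⟩ := h
  exact ⟨fun u v => by rw [← hL, ← hL, ← hL, map_add], fun a v => by rw [← hL, ← hL, map_smul]; rfl⟩

theorem isDet_gW {C : Type w} [AddCommGroup C] [Module F C] [Module.Finite F C] {d : F} {g' : Equiv.Perm C}
    (h : IsDet F d g') (t s : Fˣ) : IsDet F (-(t * s) * d) (gW t s g') := by
  obtain ⟨L, hL, hd⟩ := h
  let S : (F × F) →ₗ[F] (F × F) :=
    { toFun := fun w => ((s : F) * w.2, (t : F) * w.1)
      map_add' := fun u v => by simp [mul_add]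
      map_smul' := fun a v => by
        refine Prod.ext ?_ ?_
        · simp only [Prod.smul_snd, smul_eq_mul, RingHom.id_apply, Prod.smul_fst]; ring
        · simp only [Prod.smul_snd, smul_eq_mul, RingHom.id_apply, Prod.smul_fst]; ring }
  have hS : LinearMap.det S = -(t * s) := by
    rw [← LinearMap.det_toMatrix (Basis.finTwoProd F), Matrix.det_fin_two]
    simp [LinearMap.toMatrix_apply, S, mul_comm]
  refine ⟨L.prodMap S, fun v => ?_, ?_⟩
  · obtain ⟨c, x, z⟩ := v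
    rw [LinearMap.prodMap_apply, gW_apply, hL]
    rfl
  · rw [LinearMap.det_prodMap, hd, hS, mul_comm]

theorem isDet_tr_symm {W : Type w} [AddCommGroup W] [Module F W] (Φ : V ≃ₗ[F] W) {d : F} {g : Equiv.Perm W}
    (h : IsDet F d g) : IsDet F d ((tr Φ).symm g) := by
  obtain ⟨L, hL, hd⟩ := h
  refine ⟨(Φ.symm : W →ₗ[F] V) ∘ₗ L ∘ₗ (Φ : V →ₗ[F] W), fun v => ?_, ?_⟩
  · simp only [LinearMap.comp_apply, LinearEquiv.coe_coe, hL]
    rfl
  · rw [← hd]
    exact LinearMap.det_conj L Φ.symm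

end det

section fields

variable {F : Type u} [Field F] [Finite F]

/-- An automorphism of odd order with trivial square is trivial. -/
theorem eq_one_of_sq {G : Type*} [Group G] {x : G} {n : ℕ} (hn : Odd n) (h : x ^ n = 1) (h2 : x ^ 2 = 1) : x = 1 := by
  obtain ⟨k, rfl⟩ := hn
  rw [pow_succ, pow_mul, h2, one_pow, one_mul] at h
  exact h

/-- There is `u ≠ 0` fixed only by the trivial automorphism. -/
theorem exists_gen : ∃ u : Fˣ, ∀ θ : F ≃+* F, θ u = u → θ = 1 := by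
  obtain ⟨u, hu⟩ := IsCyclic.exists_generator (α := Fˣ)
  refine ⟨u, fun θ h => ?_⟩
  ext x
  by_cases hx : x = 0
  · rw [hx, map_zero, map_zero]
  obtain ⟨n, hn⟩ := Subgroup.mem_zpowers_iff.1 (hu (Units.mk0 x hx))
  have h1 : x = (u : F) ^ n := by
    rw [← Units.val_zpow_eq_zpow_val, hn]; rfl
  rw [h1, map_zpow₀, h]
  rfl

/-- For `p` odd there is `u` such that `u²` is fixed by no nontrivial automorphism of `p`-power order. -/
theorem exists_gen_sq {p : ℕ} (hp : Odd p) : ∃ u : Fˣ, ∀ θ : F ≃+* F, (∃ k : ℕ, θ ^ p ^ k = 1) →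
    θ ((u : F) ^ 2) = (u : F) ^ 2 → θ = 1 := by
  obtain ⟨u, hu⟩ := exists_gen (F := F)
  refine ⟨u, fun θ ⟨k, hk⟩ h => ?_⟩
  rw [map_pow, sq_eq_sq_iff_eq_or_eq_neg] at h
  rcases h with h | h
  · exact hu θ h
  · apply eq_one_of_sq (hp.pow (n := k)) hk
    apply hu
    rw [pow_two]
    change θ (θ u) = u
    rw [h, map_neg, h, neg_neg]

end fields

section linear

variable {F : Type u} [Field F] [Finite F] {p : ℕ} [Fact p.Prime] [CharP F p]

/-- The base of the induction: groups without nontrivial linear elements. -/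
theorem PG_base {V : Type v} [AddCommGroup V] [Module F V] {Γ : Subgroup (Equiv.Perm V)} (hP : PS p F Γ)
    (h : ∀ y ∈ Γ, Semi F y (1 : F ≃+* F) → y = 1) {g : Equiv.Perm V} (hg : Semi F g (1 : F ≃+* F)) : PG F Γ g := by
  intro y hy a hya
  refine ⟨?_, h y hy⟩
  obtain ⟨θ, hθ⟩ := hP.semi y hy
  have h1 : Semi F (scal F V a * (g * y * g⁻¹)) θ := by
    have h := semi_mul (semi_scal (V := V) a) (semi_mul (semi_mul hg hθ) (semi_inv hg))
    rw [one_mul, one_mul, inv_one, mul_one] at h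
    exact h
  have h2 := h _ (Γ.mul_mem (Γ.inv_mem hya) hy) (by
    have h := semi_mul (semi_inv h1) hθ
    rwa [inv_mul_cancel] at h)
  exact inv_mul_eq_one.1 h2

/-- The companion automorphism as an element of a group action on the dual space. -/
theorem exists_functional {V : Type v} [AddCommGroup V] [Module F V] [Finite V] [Nontrivial V]
    {Γ : Subgroup (Equiv.Perm V)} (hP : PS p F Γ) :
    ∃ φ : V →ₗ[F] F, φ ≠ 0 ∧ ∀ y ∈ Γ, ∀ θ : F ≃+* F, Semi F y θ → ∀ v, φ (y v) = θ (φ v) := by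
  obtain ⟨v0, hv0⟩ := exists_ne (0 : V)
  have hch : ∀ y : Γ, ∃ θ : F ≃+* F, Semi F y.1 θ := fun y => hP.semi y y.2
  choose co hco using hch
  have co_mul : ∀ y z : Γ, co (y * z) = co y * co z := fun y z =>
    semi_unique (hco (y * z)) (semi_mul (hco y) (hco z)) hv0
  have co_one : co 1 = 1 := semi_unique (hco 1) ⟨fun _ _ => rfl, fun _ _ => rfl⟩ hv0
  let act : MulAction Γ (V →ₗ[F] F) :=
    { smul := fun y φ =>
        { toFun := fun v => co y (φ (y.1⁻¹ v))
          map_add' := fun u v => by rw [(semi_inv (hco y)).1, map_add, map_add]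
          map_smul' := fun a v => by
            rw [(semi_inv (hco y)).2, map_smul, smul_eq_mul, map_mul, RingHom.id_apply, smul_eq_mul]
            congr 1
            exact RingEquiv.apply_symm_apply (co y) a }
      one_smul := fun φ => by
        ext v
        change co 1 (φ v) = φ v
        rw [co_one]
        rfl
      mul_smul := fun y z φ => by
        ext v
        change co (y * z) (φ ((y * z).1⁻¹ v)) = co y (co z (φ (z.1⁻¹ (y.1⁻¹ v))))
        rw [co_mul]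
        rfl }
  have : Finite (V →ₗ[F] F) := DFunLike.finite _
  have hdvd : p ∣ Nat.card (V →ₗ[F] F) := by
    have h1 : Nat.card (V →ₗ[F] F) = Nat.card F ^ finrank F (V →ₗ[F] F) := Module.natCard_eq_pow_finrank
    have h2 : finrank F (V →ₗ[F] F) = finrank F V := Subspace.dual_finrank_eq
    have h3 : 0 < finrank F V := Module.finrank_pos
    have h4 : p ∣ Nat.card F := by
      have := Fintype.ofFinite F
      obtain ⟨n, -, hn⟩ := FiniteField.card F p
      rw [Nat.card_eq_fintype_card, hn]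
      exact dvd_pow_self p n.ne_zero
    rw [h1, h2]
    exact dvd_pow h4 h3.ne'
  have h0 : (0 : V →ₗ[F] F) ∈ MulAction.fixedPoints Γ (V →ₗ[F] F) := by
    intro y
    ext v
    change co y 0 = 0
    rw [map_zero]
  obtain ⟨φ, hφ, hφ0⟩ := hP.grp.exists_fixed_point_of_prime_dvd_card_of_fixed_point (V →ₗ[F] F) hdvd h0
  refine ⟨φ, hφ0.symm, fun y hy θ hθ v => ?_⟩
  have h1 : co ⟨y, hy⟩ = θ := semi_unique (hco ⟨y, hy⟩) hθ hv0
  have h2 := congrArg (fun ψ : V →ₗ[F] F => ψ (y v)) (hφ ⟨y, hy⟩)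
  change co ⟨y, hy⟩ (φ (y⁻¹ (y v))) = φ (y v) at h2
  rw [perm_inv_apply, h1] at h2
  exact h2.symm

/-- The decomposition for a `p`-group of semilinear maps. -/
theorem exists_dec {V : Type v} [AddCommGroup V] [Module F V] [Finite V] (h2 : 2 ≤ finrank F V)
    {Γ : Subgroup (Equiv.Perm V)} (hP : PS p F Γ) :
    ∃ (C : Submodule F V) (Φ : V ≃ₗ[F] C × (F × F)), St (trG Φ Γ) := by
  have : Nontrivial V := Module.nontrivial_of_finrank_pos (R := F) (by omega)
  obtain ⟨φ, hφ0, hφ⟩ := exists_functional hP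
  have hφs : Function.Surjective φ := LinearMap.surjective hφ0
  obtain ⟨f0, hf0⟩ := hφs 1
  -- a fixed vector in the kernel
  let act : MulAction Γ {v : V // φ v = 0} :=
    { smul := fun y v => ⟨y.1 v.1, by
        obtain ⟨θ, hθ⟩ := hP.semi y y.2
        rw [hφ y y.2 θ hθ, v.2, map_zero]⟩
      one_smul := fun v => rfl
      mul_smul := fun y z v => rfl }
  have hker : finrank F (LinearMap.ker φ) + 1 = finrank F V := by
    have h := LinearMap.finrank_range_add_finrank_ker φ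
    rw [LinearMap.range_eq_top.2 hφs, finrank_top, finrank_self] at h
    omega
  have hdvd : p ∣ Nat.card {v : V // φ v = 0} := by
    have h1 : Nat.card {v : V // φ v = 0} = Nat.card (LinearMap.ker φ) := rfl
    have h4 : p ∣ Nat.card F := by
      have := Fintype.ofFinite F
      obtain ⟨n, -, hn⟩ := FiniteField.card F p
      rw [Nat.card_eq_fintype_card, hn]
      exact dvd_pow_self p n.ne_zero
    rw [h1, Module.natCard_eq_pow_finrank (K := F)]
    exact dvd_pow h4 (by omega)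
  obtain ⟨e, he, he0⟩ := hP.grp.exists_fixed_point_of_prime_dvd_card_of_fixed_point {v : V // φ v = 0} hdvd
    (a := ⟨0, map_zero φ⟩) (fun y => Subtype.ext (by
      obtain ⟨θ, hθ⟩ := hP.semi y y.2
      exact semi_zero hθ))
  have he0' : (e : V) ≠ 0 := fun h => he0 (Subtype.ext h.symm)
  obtain ⟨ψ, hψ⟩ : ∃ ψ : V →ₗ[F] F, ψ e = 1 := by
    obtain ⟨ψ, hψ⟩ : ∃ ψ : V →ₗ[F] F, ψ e ≠ 0 := by
      by_contra hcon
      push Not at hcon
      exact he0' ((Module.forall_dual_apply_eq_zero_iff F (e : V)).1 hcon)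
    refine ⟨(ψ e)⁻¹ • ψ, ?_⟩
    rw [LinearMap.smul_apply, smul_eq_mul, inv_mul_cancel₀ hψ]
  refine ⟨_, decE ψ φ e (f0 - ψ f0 • (e : V)) hψ (by rw [map_sub, map_smul, hψ]; simp) e.2
    (by rw [map_sub, map_smul, e.2, hf0]; simp), St_decE (fun y hy => congrArg Subtype.val (he ⟨y, hy⟩))
    fun y hy v hv => ?_⟩
  obtain ⟨θ, hθ⟩ := hP.semi y hy
  rw [hφ y hy θ hθ, hv, map_zero]

theorem exists_PG_SL (n : ℕ) : ∀ {V : Type v} [AddCommGroup V] [Module F V] [Finite V], finrank F V = n →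
    ∀ {Γ : Subgroup (Equiv.Perm V)}, PS p F Γ → ∃ g, IsDet F 1 g ∧ PG F Γ g := by
  induction n using Nat.strong_induction_on with
  | _ n ih =>
    intro V _ _ _ hn Γ hP
    rcases Nat.lt_or_ge n 2 with h2 | h2
    · refine ⟨1, isDet_one, PG_base hP (fun y hy hl => ?_) ⟨fun _ _ => rfl, fun _ _ => rfl⟩⟩
      obtain ⟨k, hk⟩ := hP.pow hy
      ext v
      rw [Equiv.Perm.one_apply]
      by_cases hv : v = 0
      · rw [hv, semi_zero hl]
      have : Module.Finite F V := Module.Finite.of_finite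
      have h1 : finrank F V = 1 := by
        have : Nontrivial V := ⟨v, 0, hv⟩
        have := Module.finrank_pos (R := F) (M := V)
        omega
      obtain ⟨c, hc⟩ := exists_smul_eq_of_finrank_eq_one h1 hv (y v)
      exact fix_of_eigen hl hk hc.symm
    · obtain ⟨C, Φ, hS⟩ := exists_dec (p := p) (by omega) hP
      have hP' := trG_PS (Φ := Φ) hP
      have hfin : finrank F V = finrank F C + 2 := by
        rw [Φ.finrank_eq, finrank_prod, finrank_prod, finrank_self]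
      obtain ⟨g', hg', hPG⟩ := ih (finrank F C) (by omega) rfl (bar_PS hS hP')
      refine ⟨(tr Φ).symm (gW 1 (-1) g'), ?_, PG_of_trG (step hS hP' hg'.semi hPG)⟩
      have h := isDet_tr_symm Φ (isDet_gW hg' 1 (-1))
      have e : -(((1 : Fˣ) : F) * ((-1 : Fˣ) : F)) * 1 = 1 := by simp
      rwa [e] at h

/-- **Task 459.** -/
theorem sepSL_char {p : ℕ} [Fact p.Prime] (hp : 5 ≤ p) {F : Type u} [Field F] [Finite F] [CharP F p]
    {V : Type v} [AddCommGroup V] [Module F V] [Finite V] (h2 : 2 ≤ Module.finrank F V) :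
    Cfsg.Agent.H903.SylSemi.SepSL p F V := by
  intro Γ hΓ hsemi _
  have hP : PS p F Γ := ⟨hΓ, hsemi⟩
  have hpo : Odd p := (Fact.out (p := p.Prime)).odd_of_ne_two (by omega)
  obtain ⟨C, Φ, hS⟩ := exists_dec (p := p) h2 hP
  have hP' := trG_PS (Φ := Φ) hP
  obtain ⟨g', hg', hPG⟩ := exists_PG_SL (p := p) (finrank F C) rfl (bar_PS hS hP')
  obtain ⟨u, hu⟩ := exists_gen_sq (F := F) hpo
  have key := sep hS hP' hg'.semi hPG 1 (-1) u u⁻¹ (by
    intro θ hθ c h1 h2 _
    apply hu θ hθ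
    have hu0 := u.ne_zero
    have hθu : θ (u : F) ≠ 0 := by rw [Ne, map_eq_zero_iff θ θ.injective]; exact hu0
    rw [Units.val_inv_eq_inv_val, map_inv₀] at h2
    have h3 : (u : F) * (u : F)⁻¹ = c * θ u * (c * (θ u)⁻¹) := by rw [← h1, ← h2]
    rw [mul_inv_cancel₀ hu0] at h3
    have h4 : c ^ 2 = 1 := by
      rw [h3]
      field_simp
    rw [map_pow]
    calc θ (u : F) ^ 2 = c ^ 2 * θ u ^ 2 := by rw [h4, one_mul]
      _ = (c * θ u) ^ 2 := by ring
      _ = _ := by rw [← h1])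
  rcases key with key | key
  · refine ⟨(tr Φ).symm (gW 1 (-1) g'), ?_, SepBy_of_trG key⟩
    have h := isDet_tr_symm Φ (isDet_gW hg' 1 (-1))
    have e : -(((1 : Fˣ) : F) * ((-1 : Fˣ) : F)) * 1 = 1 := by simp
    rwa [e] at h
  · refine ⟨(tr Φ).symm (gW (1 * u) (-1 * u⁻¹) g'), ?_, SepBy_of_trG key⟩
    have h := isDet_tr_symm Φ (isDet_gW hg' (1 * u) (-1 * u⁻¹))
    have e : -(((1 * u : Fˣ) : F) * ((-1 * u⁻¹ : Fˣ) : F)) * 1 = 1 := by
      have hu0 := u.ne_zero
      simp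
    rwa [e] at h

end linear

end Cfsg.Agent.H126.SepMain
end

private theorem dce_d5680c036186 : _root_.True := by
  try have : _root_.True := by simp only [_root_.Cfsg.Agent.H126.SepStep.barF.eq_1]
  try have : _root_.True := by simp only [_root_.Cfsg.Agent.H126.SepStep.barHom.congr_simp]
  exact _root_.True.intro
end

-- part: H185/MeetChar
section
set_option linter.all false
open scoped Cfsg.Agent.FastGrp

/-!
# Sylow subgroups of `Aut T` meeting trivially: defining characteristic, abstract form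

`U` is a Sylow `p`-subgroup of `T`, `st : Γ →* Aut T` a group of (field) automorphisms normalising `U`, fixing `k`
(with `U ∩ k U k⁻¹ = 1`) and acting freely on `t` (modulo `U`); `|Out T|` divides `m |Γ|` with `m` prime to `p`.
-/

set_option autoImplicit false

namespace Cfsg.Agent.H185.MeetChar

open Cfsg.Agent.H903.SylMeet

variable {p : ℕ} [Fact p.Prime] {T : Type*} [Group T]

omit [Fact p.Prime] in
theorem conj_mul_aut (x u : T) (δ : MulAut T) :
    MulAut.conj x * (MulAut.conj u * δ) * (MulAut.conj x)⁻¹ = MulAut.conj (x * u * (δ x)⁻¹) * δ := by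
  ext t
  simp [MulAut.mul_apply, MulAut.conj_apply, ← map_inv, mul_assoc]

omit [Fact p.Prime] in
theorem aut_mul_conj (u : T) (δ : MulAut T) : δ * MulAut.conj u = MulAut.conj (δ u) * δ := by
  ext t
  simp [MulAut.mul_apply, MulAut.conj_apply]

/-- the group `Inn(U) D` -/
def PP {Γ : Type*} [Group Γ] (U : Subgroup T) (S : Subgroup Γ) (st : Γ →* MulAut T)
    (hst : ∀ γ, ∀ u ∈ U, st γ u ∈ U) : Subgroup (MulAut T) where
  carrier := {y | ∃ u ∈ U, ∃ γ ∈ S, y = MulAut.conj u * st γ}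
  mul_mem' := by
    rintro _ _ ⟨u, hu, γ, hγ, rfl⟩ ⟨u', hu', γ', hγ', rfl⟩
    refine ⟨u * st γ u', mul_mem hu (hst γ _ hu'), γ * γ', mul_mem hγ hγ', ?_⟩
    rw [map_mul, map_mul, mul_assoc, ← mul_assoc (st γ), aut_mul_conj]
    simp only [mul_assoc]
  one_mem' := ⟨1, one_mem _, 1, one_mem _, by simp⟩
  inv_mem' := by
    rintro _ ⟨u, hu, γ, hγ, rfl⟩
    refine ⟨st γ⁻¹ u⁻¹, hst _ _ (inv_mem hu), γ⁻¹, inv_mem hγ, ?_⟩
    rw [mul_inv_rev, ← map_inv, ← map_inv, aut_mul_conj]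

theorem mem_PP {Γ : Type*} [Group Γ] {U : Subgroup T} {S : Subgroup Γ} {st : Γ →* MulAut T}
    {hst : ∀ γ, ∀ u ∈ U, st γ u ∈ U} {y : MulAut T} :
    y ∈ PP U S st hst ↔ ∃ u ∈ U, ∃ γ ∈ S, y = MulAut.conj u * st γ := Iff.rfl

/-- A `p`-element normalising a Sylow `p`-subgroup `U` lies in `U`. -/
theorem mem_of_normalises [Finite T] {U : Subgroup T} (hU : IsPGroup p U) (hUi : ¬ p ∣ U.index) {g : T} {n : ℕ}
    (hg : g ^ p ^ n = 1) (hn : ∀ u ∈ U, g * u * g⁻¹ ∈ U) : g ∈ U := by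
  have hz : IsPGroup p (Subgroup.zpowers g) := by
    obtain ⟨k, -, hk⟩ := (Nat.dvd_prime_pow (Fact.out : p.Prime)).1 (orderOf_dvd_of_pow_eq_one hg)
    exact IsPGroup.of_card (n := k) (by rw [Nat.card_zpowers, hk])
  have hfin : ∀ u, g * u * g⁻¹ ∈ U → u ∈ U := by
    have h1 : U.map (MulAut.conj g).toMonoidHom ≤ U := by
      rintro _ ⟨u, hu, rfl⟩
      exact hn u hu
    have h2 : U.map (MulAut.conj g).toMonoidHom = U := by
      apply Subgroup.eq_of_le_of_card_ge h1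
      rw [Subgroup.card_map_of_injective (MulAut.conj g).injective]
    intro u hu
    rw [← h2] at hu
    obtain ⟨v, hv, e⟩ := hu
    have : v = u := by
      have e' : g * v * g⁻¹ = g * u * g⁻¹ := e
      exact mul_left_cancel (mul_right_cancel e')
    exact this ▸ hv
  have hnor : Subgroup.zpowers g ≤ Subgroup.normalizer (U : Set T) := by
    rw [Subgroup.zpowers_le, Subgroup.mem_normalizer_iff]
    exact fun u => ⟨hn u, hfin u⟩
  have hsup : IsPGroup p ↥(Subgroup.zpowers g ⊔ U) := hz.to_sup_of_normal_right' hU hnor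
  have hmax : Subgroup.zpowers g ⊔ U = U := (hU.toSylow hUi).is_maximal' hsup le_sup_right
  rw [← hmax]
  exact Subgroup.mem_sup_left (Subgroup.mem_zpowers _)

/-- **Defining characteristic, abstract form.** -/
theorem meet_of_frame [Finite T] [IsSimpleGroup T] (hT : ¬ IsMulCommutative T)
    {U : Subgroup T} (hU : IsPGroup p U) (hUi : ¬ p ∣ U.index)
    {Γ : Type*} [Group Γ] [Finite Γ] (st : Γ →* MulAut T) (hst : ∀ γ, ∀ u ∈ U, st γ u ∈ U)
    {m : ℕ} (hm : ¬ p ∣ m) (hout : Nat.card (Cfsg.Out T) ∣ m * Nat.card Γ)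
    (k t : T) (hk : ∀ γ, st γ k = k) (hkU : ∀ u ∈ U, k * u * k⁻¹ ∈ U → u = 1)
    (hopp : ∀ u ∈ U, ∀ γ, t * (k * u * k⁻¹) * (st γ t)⁻¹ ∈ U → u = 1)
    (hreg : ∀ γ, (∃ n, γ ^ p ^ n = 1) → t * (st γ t)⁻¹ ∈ U → γ = 1) : Meet p T := by
  have hp : p.Prime := Fact.out
  have hinj := conj_injective (T := T) hT
  obtain ⟨S⟩ : Nonempty (Sylow p Γ) := inferInstance
  have hS : ∀ γ ∈ (S : Subgroup Γ), ∃ n, γ ^ p ^ n = 1 := by
    intro γ hγ
    obtain ⟨n, hn⟩ := S.isPGroup' ⟨γ, hγ⟩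
    exact ⟨n, by simpa using congrArg Subtype.val hn⟩
  -- `D ∩ Inn T = 1`
  have hDI : ∀ γ ∈ (S : Subgroup Γ), ∀ g : T, MulAut.conj g = st γ → γ = 1 := by
    intro γ hγ g hg
    obtain ⟨n, hn⟩ := hS γ hγ
    have hgn : g ^ p ^ n = 1 := by
      apply hinj
      rw [map_pow, hg, ← map_pow, hn, map_one, map_one]
    have hgU : g ∈ U := by
      apply mem_of_normalises hU hUi hgn
      intro u hu
      have := hst γ u hu
      rw [← hg] at this
      exact this
    have h1 : g * k * g⁻¹ = k := by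
      have := hk γ
      rw [← hg] at this
      exact this
    have h2 : k * g * k⁻¹ = g := by
      rw [mul_inv_eq_iff_eq_mul, ← mul_inv_eq_iff_eq_mul.1 h1]
    have h3 : g = 1 := hkU g hgU (by rw [h2]; exact hgU)
    have h4 : st γ = 1 := by rw [← hg, h3, map_one]
    exact hreg γ ⟨n, hn⟩ (by rw [h4]; simp)
  have huniq : ∀ u ∈ U, ∀ u' ∈ U, ∀ γ ∈ (S : Subgroup Γ), ∀ γ' ∈ (S : Subgroup Γ), ∀ g : T,
      MulAut.conj g * st γ = MulAut.conj u' * st γ' → γ = γ' ∧ g = u' := by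
    intro u _ u' _ γ hγ γ' hγ' g h
    have h1 : MulAut.conj (u'⁻¹ * g) = st (γ' * γ⁻¹) := by
      rw [map_mul, map_mul, map_inv, map_inv, inv_mul_eq_iff_eq_mul, ← mul_assoc, ← h, mul_assoc, mul_inv_cancel,
        mul_one]
    have h2 := hDI _ (mul_mem hγ' (inv_mem hγ)) _ h1
    have h3 : γ = γ' := (mul_inv_eq_one.1 h2).symm
    refine ⟨h3, ?_⟩
    subst h3
    exact hinj (mul_right_cancel h)
  -- the order of `P`
  have hcard : Nat.card ↥(PP U (S : Subgroup Γ) st hst) = Nat.card U * Nat.card S := by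
    rw [← Nat.card_prod]
    symm
    refine Nat.card_congr (Equiv.ofBijective (fun a => ⟨MulAut.conj (a.1 : T) * st (a.2 : Γ),
      ⟨a.1, a.1.2, a.2, a.2.2, rfl⟩⟩) ⟨?_, ?_⟩)
    · rintro ⟨⟨u, hu⟩, ⟨γ, hγ⟩⟩ ⟨⟨u', hu'⟩, ⟨γ', hγ'⟩⟩ h
      obtain ⟨h1, h2⟩ := huniq u hu u' hu' γ hγ γ' hγ' u (congrArg Subtype.val h)
      subst h1
      subst h2
      rfl
    · rintro ⟨y, u, hu, γ, hγ, rfl⟩
      exact ⟨⟨⟨u, hu⟩, ⟨γ, hγ⟩⟩, rfl⟩
  obtain ⟨a, ha⟩ := hU.exists_card_eq
  obtain ⟨b, hb⟩ := S.isPGroup'.exists_card_eq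
  have hPp : IsPGroup p ↥(PP U (S : Subgroup Γ) st hst) := by
    apply IsPGroup.of_card (n := a + b)
    rw [hcard, ha, hb, pow_add]
  refine meet_of_index (PP U (S : Subgroup Γ) st hst) hPp ?_ ?_
  · intro hdvd
    have h1 := Subgroup.card_mul_index (PP U (S : Subgroup Γ) st hst)
    rw [hcard, ← Cfsg.Agent.H934.OutB.card_out_mul T hT] at h1
    have h2 := U.card_mul_index
    have h3 := (S : Subgroup Γ).card_mul_index
    have h4 : p * (Nat.card U * Nat.card S) ∣ m * (Nat.card S * (S : Subgroup Γ).index) * (Nat.card U * U.index) := by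
      rw [h2, h3]
      refine dvd_trans ?_ (mul_dvd_mul_right hout _)
      rw [← h1, mul_comm p]
      exact mul_dvd_mul_left _ hdvd
    have h5 : m * (Nat.card S * (S : Subgroup Γ).index) * (Nat.card U * U.index) =
        (m * (S : Subgroup Γ).index * U.index) * (Nat.card U * Nat.card S) := by ring
    rw [h5] at h4
    have h6 := Nat.dvd_of_mul_dvd_mul_right (Nat.mul_pos Nat.card_pos Nat.card_pos) h4
    rcases (hp.dvd_mul.1 h6) with h7 | h7
    · rcases (hp.dvd_mul.1 h7) with h8 | h8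
      · exact hm h8
      · exact S.not_dvd_index h8
    · exact hUi h7
  · refine ⟨t * k, ?_⟩
    rintro _ ⟨u, hu, γ, hγ, rfl⟩ h
    rw [conj_mul_aut] at h
    obtain ⟨u', hu', γ', hγ', h'⟩ := h
    obtain ⟨-, h1⟩ := huniq u hu u' hu' γ hγ γ' hγ' _ h'
    have h2 : t * k * u * (st γ (t * k))⁻¹ = t * (k * u * k⁻¹) * (st γ t)⁻¹ := by
      rw [map_mul, hk]
      group
    rw [h2] at h1
    have h3 : u = 1 := hopp u hu γ (by rw [h1]; exact hu')
    subst h3
    have h4 : γ = 1 := by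
      apply hreg γ (hS γ hγ)
      have : t * (st γ t)⁻¹ = t * (k * 1 * k⁻¹) * (st γ t)⁻¹ := by group
      rw [this, h1]
      exact hu'
    rw [h4, map_one, map_one, mul_one]

end Cfsg.Agent.H185.MeetChar
end
end
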